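import Mathlib

set_option autoImplicit false

namespace Cfsg.Agent.Lib.Helper24.APF

open Equiv

def Good {α : Type*} [DecidableEq α] [Fintype α] (p : ℕ) (u w : Perm α) : Prop :=
  (¬ ∃ k : ℕ, orderOf (u * w) = p ^ k) ∧
    ¬ Group.IsSolvable ↥(Subgroup.closure ({u, w} : Set (Perm α)))

def Cfg (p : ℕ) (A B : Multiset ℕ) (N : ℕ) : Prop :=
  ∃ u w : Perm (Fin N), u.cycleType = A ∧ w.cycleType = B ∧ Good p u w

def Cfg2 (p : ℕ) (A B : Multiset ℕ) (N : ℕ) : Prop :=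
  ∃ u w d : Perm (Fin N), u.cycleType = A ∧ w.cycleType = B ∧ Perm.sign d = -1 ∧
    Good p u w ∧ Good p u (d * w * d⁻¹)

def c6V (ℓ e k : ℕ) : Perm (ZMod ℓ) :=
  ((List.range k).map (fun r : ℕ =>
    swap (r : ZMod ℓ) ((r : ZMod ℓ) + (e : ZMod ℓ)) *
      swap ((r : ZMod ℓ) + (e : ZMod ℓ)) ((r : ZMod ℓ) + 2 * (e : ZMod ℓ)))).prod

def c6W (ℓ e k : ℕ) : Perm (ZMod ℓ) :=
  swap (0 : ZMod ℓ) (1 + (e : ZMod ℓ)) * c6V ℓ e k * (swap (0 : ZMod ℓ) (1 + (e : ZMod ℓ)))⁻¹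

end Cfsg.Agent.Lib.Helper24.APF
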