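import Mathlib
import Cfsg.Agent.Lib.Helper13.APFCERT1
import Cfsg.Agent.Lib.Helper13.APFCERT2
import Cfsg.Agent.Lib.Helper13.APFCERT3
import Cfsg.Agent.Lib.Helper25.APFNPP
import Cfsg.Agent.Lib.Helper25.APFCYC
import Cfsg.Agent.Lib.Helper29.APFLOC0
import Cfsg.Agent.Lib.Helper29.APFLOCa
import Cfsg.Agent.Lib.Helper22.APFLOCb
import Cfsg.Agent.Lib.Helper1.APFGREEDY
import Cfsg.Agent.Lib.Helper1.APFDIST
import Cfsg.Agent.Lib.Helper24.APFC1a
import Cfsg.Agent.Lib.Helper11.APFC6a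
import Cfsg.Agent.Lib.Helper29.APFC6b
import Cfsg.Agent.Lib.Helper11.APFC1b
import Cfsg.Agent.Lib.Helper11.APFC5
import Cfsg.Agent.Lib.Helper29.APFC6c
import Cfsg.Agent.Lib.Helper29.APFCONC
import Cfsg.Agent.Lib.Helper29.APFC6d
import Cfsg.Agent.Lib.Helper20.APFC6e
import Cfsg.Agent.Lib.Helper20.APFCD3
import Cfsg.Agent.Lib.Helper20.APFCDne3

set_option autoImplicit false
set_option linter.style.haveILetI false

namespace Cfsg.Agent.Lib.Helper24.APF

open Equiv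

theorem cfg_cycle_threes (e k : ℕ) (he : 3 ≤ e) (hk2 : 2 ≤ k) (hke : k ≤ e) :
    Cfg 3 {3 * e} (Multiset.replicate k 3) (3 * e) := by
  obtain ⟨ℓ, hℓ⟩ : ∃ ℓ : ℕ, ℓ = 3 * e := ⟨_, rfl⟩
  haveI : NeZero ℓ := ⟨by omega⟩
  rw [← hℓ]
  set σ : Perm (ZMod ℓ) := Equiv.addRight (1 : ZMod ℓ) with hσ
  have hG : Good 3 σ (c6W ℓ e k) := by
    refine ⟨c6_not_ppow ℓ e k hℓ he hk2 hke, ?_⟩
    have h1 : σ ∈ Subgroup.closure ({σ, c6W ℓ e k} : Set (Perm (ZMod ℓ))) :=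
      Subgroup.subset_closure (Set.mem_insert _ _)
    have h2 : c6W ℓ e k ∈ Subgroup.closure ({σ, c6W ℓ e k} : Set (Perm (ZMod ℓ))) :=
      Subgroup.subset_closure (Set.mem_insert_of_mem _ rfl)
    apply c6_not_solvable ℓ e hℓ he
    · exact h1
    · rw [← c6_cube ℓ e k hℓ he hk2 hke]
      apply Subgroup.pow_mem
      apply Subgroup.mul_mem
      · apply Subgroup.inv_mem
        apply Subgroup.pow_mem
        exact h1
      · exact h2
  have := cfg_of_fintype 3 _ _ hG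
  rw [cycleType_addRight_one ℓ (by omega), ZMod.card] at this
  have hW : (c6W ℓ e k).cycleType = Multiset.replicate k 3 := by
    unfold c6W
    rw [Equiv.Perm.cycleType_conj]
    exact c6V_cycleType ℓ e k hℓ hke
  rwa [hW] at this

end Cfsg.Agent.Lib.Helper24.APF
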