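import Mathlib
import Cfsg.Agent.Lib.Helper24.APF.AsmC6

set_option autoImplicit false

namespace Cfsg.Agent.Lib.Helper24.APF

open Equiv

theorem cfg_symm {p : ℕ} {A B : Multiset ℕ} {N : ℕ} (h : Cfg p A B N) : Cfg p B A N := by
  obtain ⟨u, w, hu, hw, hg⟩ := h
  exact ⟨w, u, hw, hu, good_symm p u w hg⟩

theorem parts_pow {n : ℕ} (p : ℕ) (hp : p.Prime) (U : Perm (Fin n))
    (hU : ∃ k : ℕ, orderOf U = p ^ k) :
    ∀ x ∈ U.cycleType, ∃ j : ℕ, 1 ≤ j ∧ x = p ^ j := by
  intro x hx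
  obtain ⟨k, hk⟩ := hU
  have hdvd : x ∣ p ^ k := hk ▸ Equiv.Perm.dvd_of_mem_cycleType hx
  obtain ⟨j, hjk, rfl⟩ := (Nat.dvd_prime_pow hp).mp hdvd
  have h2 := Equiv.Perm.two_le_of_mem_cycleType hx
  refine ⟨j, ?_, rfl⟩
  by_contra h
  have : j = 0 := by omega
  subst this
  simp at h2

theorem swap_roles {n : ℕ} (p : ℕ) (U W : Perm (Fin n))
    (h : ∃ g : Perm (Fin n), Perm.sign g = 1 ∧ Good p W (g * U * g⁻¹)) :
    ∃ g : Perm (Fin n), Perm.sign g = 1 ∧ Good p U (g * W * g⁻¹) := by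
  obtain ⟨g, hg, hG⟩ := h
  refine ⟨g⁻¹, by simp [hg], ?_⟩
  have := good_conj p g⁻¹ _ _ (good_symm p _ _ hG)
  simpa [mul_assoc] using this

theorem parity_fix {n : ℕ} (p : ℕ) (U W : Perm (Fin n))
    (hc : ¬ (Subgroup.centralizer {U} ≤ alternatingGroup (Fin n)) ∨
      ¬ (Subgroup.centralizer {W} ≤ alternatingGroup (Fin n)))
    (h : ∃ g : Perm (Fin n), Good p U (g * W * g⁻¹)) :
    ∃ g : Perm (Fin n), Perm.sign g = 1 ∧ Good p U (g * W * g⁻¹) := by
  obtain ⟨g, hG⟩ := h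
  rcases Int.units_eq_one_or (Perm.sign g) with h1 | h1
  · exact ⟨g, h1, hG⟩
  · rcases hc with hc | hc
    · rw [SetLike.not_le_iff_exists] at hc
      obtain ⟨c, hcU, hcA⟩ := hc
      have hsc : Perm.sign c = -1 := by
        rcases Int.units_eq_one_or (Perm.sign c) with h2 | h2
        · exact absurd (Equiv.Perm.mem_alternatingGroup.mpr h2) hcA
        · exact h2
      have hcomm : c * U * c⁻¹ = U := by
        have := Subgroup.mem_centralizer_singleton_iff.mp hcU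
        rw [this]
        group
      refine ⟨c * g, by simp [h1, hsc], ?_⟩
      have := good_conj p c _ _ hG
      rw [hcomm] at this
      have e : c * g * W * (c * g)⁻¹ = c * (g * W * g⁻¹) * c⁻¹ := by group
      rwa [e]
    · rw [SetLike.not_le_iff_exists] at hc
      obtain ⟨c, hcW, hcA⟩ := hc
      have hsc : Perm.sign c = -1 := by
        rcases Int.units_eq_one_or (Perm.sign c) with h2 | h2
        · exact absurd (Equiv.Perm.mem_alternatingGroup.mpr h2) hcA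
        · exact h2
      have hcomm : c * W * c⁻¹ = W := by
        have := Subgroup.mem_centralizer_singleton_iff.mp hcW
        rw [this]
        group
      refine ⟨g * c, by simp [h1, hsc], ?_⟩
      have e : g * c * W * (g * c)⁻¹ = g * (c * W * c⁻¹) * g⁻¹ := by group
      rwa [e, hcomm]

theorem zmod_ne (ℓ a b : ℕ) [NeZero ℓ] (ha : a < ℓ) (hb : b < ℓ) (hab : a ≠ b) :
    ((a : ℕ) : ZMod ℓ) ≠ ((b : ℕ) : ZMod ℓ) := by
  intro h
  have := (ZMod.natCast_eq_natCast_iff' a b ℓ).mp h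
  rw [Nat.mod_eq_of_lt ha, Nat.mod_eq_of_lt hb] at this
  exact hab this

end Cfsg.Agent.Lib.Helper24.APF
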