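import Mathlib
import Cfsg.Agent.Lib.Helper24.APF.Asm1

set_option autoImplicit false
set_option linter.style.haveILetI false

namespace Cfsg.Agent.Lib.Helper24.APF

open Equiv

theorem sum_sub_of_le {A L : Multiset ℕ} (h : A ≤ L) : (L - A).sum + A.sum = L.sum := by
  rw [← Multiset.sum_add, Multiset.sub_add_cancel h]

theorem sum_cycleType_le {n : ℕ} (U : Perm (Fin n)) : U.cycleType.sum ≤ n := by
  rw [Equiv.Perm.sum_cycleType]
  exact (Finset.card_le_univ _).trans (by simp)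

theorem cfg_interval (p : ℕ) (hp : Odd p) (ℓ s : ℕ) (M : Multiset ℕ) (hℓ : Odd ℓ)
    (hs : Odd s) (hs5 : 5 ≤ s) (hM : ∀ x ∈ M, Odd x ∧ 3 ≤ x) (hsum : s + M.sum ≤ ℓ) :
    Cfg p {ℓ} (s ::ₘ M) ℓ := by
  have hℓ5 : 5 ≤ ℓ := by omega
  haveI : NeZero ℓ := ⟨by omega⟩
  obtain ⟨V, j, hV, hj, hc, hfix⟩ := exists_interval_perm ℓ s M hℓ hs hs5 hM hsum
  have hG := good_of_interval p ℓ hp hℓ hℓ5 V j hj hc hfix
  have := cfg_of_fintype p _ _ hG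
  rw [cycleType_addRight_one ℓ (by omega), Equiv.Perm.cycleType_conj, hV, ZMod.card] at this
  exact this

theorem cfg2_matched (p : ℕ) (hp : Odd p) (ℓ : ℕ) (hℓ : Odd ℓ) (h5 : 5 ≤ ℓ)
    (h9 : p = 3 → 9 ≤ ℓ) : Cfg2 p {ℓ} {ℓ} ℓ := by
  haveI : NeZero ℓ := ⟨by omega⟩
  set σ : Perm (ZMod ℓ) := Equiv.addRight (1 : ZMod ℓ) with hσ
  have hG : Good p σ (swap 1 3 * σ⁻¹ * (swap (1 : ZMod ℓ) 3)⁻¹) := by
    refine good_of_interval p ℓ hp hℓ h5 σ⁻¹ 1 odd_one ?_ ?_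
    · rw [mul_inv_cancel, pow_one]
    · intro i _
      rw [mul_inv_cancel]
      rfl
  have h12 : (1 : ZMod ℓ) ≠ 2 := by
    have := zmod_ne ℓ 1 2 (by omega) (by omega) (by omega)
    simpa using this
  have h23 : (2 : ZMod ℓ) ≠ 3 := by
    have := zmod_ne ℓ 2 3 (by omega) (by omega) (by omega)
    simpa using this
  have h34 : (3 : ZMod ℓ) ≠ 4 := by
    have := zmod_ne ℓ 3 4 (by omega) (by omega) (by omega)
    simpa using this
  have h13 : (1 : ZMod ℓ) ≠ 3 := by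
    have := zmod_ne ℓ 1 3 (by omega) (by omega) (by omega)
    simpa using this
  have hcard : Fintype.card (ZMod ℓ) = ℓ := ZMod.card ℓ
  have hσt : σ.cycleType = {ℓ} := cycleType_addRight_one ℓ (by omega)
  by_cases hp3 : p = 3
  · subst hp3
    have hG' := good_matched_even_3 ℓ hℓ (h9 rfl)
    have hd : Perm.sign ((swap (1 : ZMod ℓ) 2 * swap 3 4) * (swap (1 : ZMod ℓ) 3)⁻¹) = -1 := by
      simp [Equiv.Perm.sign_swap h12, Equiv.Perm.sign_swap h34, Equiv.Perm.sign_swap h13]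
    have e : ((swap (1 : ZMod ℓ) 2 * swap 3 4) * (swap (1 : ZMod ℓ) 3)⁻¹) *
        (swap 1 3 * σ⁻¹ * (swap (1 : ZMod ℓ) 3)⁻¹) *
        ((swap (1 : ZMod ℓ) 2 * swap 3 4) * (swap (1 : ZMod ℓ) 3)⁻¹)⁻¹ =
        (swap 1 2 * swap 3 4) * σ⁻¹ * (swap (1 : ZMod ℓ) 2 * swap 3 4)⁻¹ := by group
    have := cfg2_of_fintype 3 σ _ _ hd hG (by rw [e]; exact hG')
    rwa [hσt, Equiv.Perm.cycleType_conj, Equiv.Perm.cycleType_inv, hσt, hcard] at this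
  · have hG' := good_matched_even_ne3 p ℓ hp hp3 hℓ h5
    have hd : Perm.sign ((swap (1 : ZMod ℓ) 2 * swap 2 3) * (swap (1 : ZMod ℓ) 3)⁻¹) = -1 := by
      simp [Equiv.Perm.sign_swap h12, Equiv.Perm.sign_swap h23, Equiv.Perm.sign_swap h13]
    have e : ((swap (1 : ZMod ℓ) 2 * swap 2 3) * (swap (1 : ZMod ℓ) 3)⁻¹) *
        (swap 1 3 * σ⁻¹ * (swap (1 : ZMod ℓ) 3)⁻¹) *
        ((swap (1 : ZMod ℓ) 2 * swap 2 3) * (swap (1 : ZMod ℓ) 3)⁻¹)⁻¹ =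
        (swap 1 2 * swap 2 3) * σ⁻¹ * (swap (1 : ZMod ℓ) 2 * swap 2 3)⁻¹ := by group
    have := cfg2_of_fintype p σ _ _ hd hG (by rw [e]; exact hG')
    rwa [hσt, Equiv.Perm.cycleType_conj, Equiv.Perm.cycleType_inv, hσt, hcard] at this

end Cfsg.Agent.Lib.Helper24.APF
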