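import Mathlib
import Cfsg.Agent.Lib.Helper24.APF.Asm2

set_option autoImplicit false
set_option linter.style.haveILetI false

namespace Cfsg.Agent.Lib.Helper24.APF

open Equiv

theorem main_big_aux {n : ℕ} (hn : 5 ≤ n) (p : ℕ) (hp : p.Prime) (hp3 : 3 ≤ p)
    (U W : Perm (Fin n))
    (hUo : ∃ k : ℕ, orderOf U = p ^ k) (hWo : ∃ k : ℕ, orderOf W = p ^ k)
    (r s : ℕ) (hr : r ∈ U.cycleType) (hrmax : ∀ x ∈ U.cycleType, x ≤ r)
    (hs : s ∈ W.cycleType) (hsmax : ∀ x ∈ W.cycleType, x ≤ s) (hs5 : 5 ≤ s) (hsr : s ≤ r) :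
    ∃ g : Perm (Fin n), Perm.sign g = 1 ∧ Good p U (g * W * g⁻¹) := by
  have hpodd : Odd p := hp.odd_of_ne_two (by omega)
  have hl := parts_pow p hp U hUo
  have hm := parts_pow p hp W hWo
  have hUn := sum_cycleType_le U
  have hWn := sum_cycleType_le W
  by_cases hcent : Subgroup.centralizer {U} ≤ alternatingGroup (Fin n) ∧
      Subgroup.centralizer {W} ≤ alternatingGroup (Fin n)
  · obtain ⟨hcU, hcW⟩ := hcent
    rw [Equiv.Perm.centralizer_le_alternating_iff] at hcU hcW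
    obtain ⟨-, hU2, hU3⟩ := hcU
    obtain ⟨-, hW2, hW3⟩ := hcW
    rw [Fintype.card_fin] at hU2 hW2
    obtain ⟨q, hqU, hqW, hq5, hq9⟩ := max_eq_of_nodup p hp hp3 n hn U.cycleType W.cycleType
      hl hm hU3 hW3 hUn hU2 hWn hW2
    have hqodd : Odd q := by
      obtain ⟨j, -, rfl⟩ := hl q hqU
      exact hpodd.pow
    have hcfg := cfg2_matched p hpodd q hqodd hq5 hq9
    have hA : ({q} : Multiset ℕ) ≤ U.cycleType := Multiset.singleton_le.mpr hqU
    have hB : ({q} : Multiset ℕ) ≤ W.cycleType := Multiset.singleton_le.mpr hqW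
    have e1 := sum_sub_of_le hA
    have e2 := sum_sub_of_le hB
    rw [Multiset.sum_singleton] at e1 e2
    exact good_of_cfg2 p hp U W {q} {q} q hcfg hA hB (by omega) (by omega)
  · apply parity_fix p U W (by tauto)
    obtain ⟨jr, -, hjr⟩ := hl r hr
    obtain ⟨M, hM1, hM2, hM3⟩ := exists_sub_multiset p hp W.cycleType
      (fun x hx => by obtain ⟨j, -, h⟩ := hm x hx; exact ⟨j, h⟩) s hs hsmax r ⟨jr, hjr⟩ hsr
      (n - W.cycleType.sum) (by
        have := hrmax r hr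
        have hr' : r ≤ U.cycleType.sum := Multiset.le_sum_of_mem hr
        omega)
    have hrodd : Odd r := by rw [hjr]; exact hpodd.pow
    have hsodd : Odd s := by
      obtain ⟨j, -, rfl⟩ := hm s hs
      exact hpodd.pow
    have hMparts : ∀ x ∈ M, Odd x ∧ 3 ≤ x := by
      intro x hx
      have hxW : x ∈ W.cycleType := Multiset.mem_of_le hM1 (Multiset.mem_cons_of_mem hx)
      obtain ⟨j, hj1, rfl⟩ := hm x hxW
      refine ⟨hpodd.pow, ?_⟩
      calc 3 ≤ p := hp3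
        _ = p ^ 1 := (pow_one p).symm
        _ ≤ p ^ j := Nat.pow_le_pow_right hp.pos hj1
    have hcfg := cfg_interval p hpodd r s M hrodd hsodd hs5 hMparts hM2
    have hA : ({r} : Multiset ℕ) ≤ U.cycleType := Multiset.singleton_le.mpr hr
    have e1 := sum_sub_of_le hA
    have e2 := sum_sub_of_le hM1
    rw [Multiset.sum_singleton] at e1
    rw [Multiset.sum_cons] at e2
    exact good_of_cfg p hp U W {r} (s ::ₘ M) r hcfg hA hM1 (by omega) (by omega)

theorem main_big {n : ℕ} (hn : 5 ≤ n) (p : ℕ) (hp : p.Prime) (hp3 : 3 ≤ p)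
    (U W : Perm (Fin n))
    (hUo : ∃ k : ℕ, orderOf U = p ^ k) (hWo : ∃ k : ℕ, orderOf W = p ^ k)
    (hbU : ∃ x ∈ U.cycleType, 5 ≤ x) (hbW : ∃ x ∈ W.cycleType, 5 ≤ x) :
    ∃ g : Perm (Fin n), Perm.sign g = 1 ∧ Good p U (g * W * g⁻¹) := by
  obtain ⟨x, hx, hx5⟩ := hbU
  obtain ⟨y, hy, hy5⟩ := hbW
  have hU0 : U.cycleType ≠ 0 := fun h => by rw [h] at hx; exact absurd hx (Multiset.notMem_zero _)
  have hW0 : W.cycleType ≠ 0 := fun h => by rw [h] at hy; exact absurd hy (Multiset.notMem_zero _)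
  obtain ⟨r, hr, hrmax⟩ := Multiset.exists_max_image (s := U.cycleType) id hU0
  obtain ⟨s, hs, hsmax⟩ := Multiset.exists_max_image (s := W.cycleType) id hW0
  simp only [id] at hrmax hsmax
  have hr5 : 5 ≤ r := hx5.trans (hrmax x hx)
  have hs5 : 5 ≤ s := hy5.trans (hsmax y hy)
  rcases le_total s r with h | h
  · exact main_big_aux hn p hp hp3 U W hUo hWo r s hr hrmax hs hsmax hs5 h
  · exact swap_roles p U W (main_big_aux hn p hp hp3 W U hWo hUo s r hs hsmax hr hrmax hr5 h)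

end Cfsg.Agent.Lib.Helper24.APF
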