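import Mathlib
import Cfsg.Agent.Lib.Helper24.APF.Asm3

set_option autoImplicit false
set_option linter.style.haveILetI false

namespace Cfsg.Agent.Lib.Helper24.APF

open Equiv

theorem main_small {n : ℕ} (hn : 5 ≤ n) (U W : Perm (Fin n)) (hU1 : U ≠ 1) (hW1 : W ≠ 1)
    (hUo : ∃ k : ℕ, orderOf U = 3 ^ k) (hWo : ∃ k : ℕ, orderOf W = 3 ^ k)
    (hW3 : ∀ y ∈ W.cycleType, y < 5) :
    ∃ g : Perm (Fin n), Perm.sign g = 1 ∧ Good 3 U (g * W * g⁻¹) := by
  have hp : Nat.Prime 3 := Nat.prime_three
  have hl := parts_pow 3 hp U hUo
  have hm := parts_pow 3 hp W hWo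
  have hUn := sum_cycleType_le U
  have hWn := sum_cycleType_le W
  have hW3' : ∀ y ∈ W.cycleType, y = 3 := by
    intro y hy
    obtain ⟨j, hj1, rfl⟩ := hm y hy
    have h5 := hW3 _ hy
    have : j < 2 := by
      by_contra hge
      have : 3 ^ 2 ≤ 3 ^ j := Nat.pow_le_pow_right (by norm_num) (by omega)
      omega
    have : j = 1 := by omega
    subst this
    norm_num
  set m := Multiset.card W.cycleType with hmdef
  have hWrep : W.cycleType = Multiset.replicate m 3 := Multiset.eq_replicate_card.mpr hW3'
  have hm1 : 1 ≤ m := by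
    rw [hmdef, Nat.one_le_iff_ne_zero, Ne, Multiset.card_eq_zero, Equiv.Perm.cycleType_eq_zero]
    exact hW1
  have hWsum : W.cycleType.sum = 3 * m := by
    rw [hWrep, Multiset.sum_replicate, smul_eq_mul, mul_comm]
  have hU0 : U.cycleType ≠ 0 := by
    rw [Ne, Equiv.Perm.cycleType_eq_zero]
    exact hU1
  apply parity_fix 3 U W
  · right
    intro hle
    rw [Equiv.Perm.centralizer_le_alternating_iff] at hle
    obtain ⟨-, h2, h3⟩ := hle
    rw [Fintype.card_fin] at h2
    have := h3 3
    rw [hWrep, Multiset.count_replicate_self] at this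
    omega
  by_cases hm2 : m = 1
  · have hB : ({3} : Multiset ℕ) ≤ W.cycleType := by
      rw [hWrep, hm2]
      exact le_of_eq (by simp)
    have e2 := sum_sub_of_le hB
    rw [Multiset.sum_singleton] at e2
    by_cases hbig : ∃ ℓ ∈ U.cycleType, 5 ≤ ℓ
    · obtain ⟨ℓ, hℓ, hℓ5⟩ := hbig
      obtain ⟨j, hj1, hj⟩ := hl ℓ hℓ
      have hj2 : 2 ≤ j := by
        by_contra hlt
        have : j = 1 := by omega
        subst this
        omega
      have hℓ9 : 9 ≤ ℓ := by
        rw [hj]
        calc 9 = 3 ^ 2 := by norm_num
          _ ≤ 3 ^ j := Nat.pow_le_pow_right (by norm_num) hj2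
      have hℓodd : Odd ℓ := by
        rw [hj]
        exact (by decide : Odd 3).pow
      have hcfg := cfg_cycle_three ℓ (by omega) hℓodd
      have hA : ({ℓ} : Multiset ℕ) ≤ U.cycleType := Multiset.singleton_le.mpr hℓ
      have e1 := sum_sub_of_le hA
      rw [Multiset.sum_singleton] at e1
      exact good_of_cfg 3 hp U W {ℓ} {3} ℓ hcfg hA hB (by omega) (by omega)
    · have hU3 : ∀ x ∈ U.cycleType, x = 3 := by
        intro x hx
        obtain ⟨j, hj1, rfl⟩ := hl x hx
        have hx5 : ¬ 5 ≤ 3 ^ j := fun h => hbig ⟨_, hx, h⟩
        have : j < 2 := by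
          by_contra hge
          have : 3 ^ 2 ≤ 3 ^ j := Nat.pow_le_pow_right (by norm_num) (by omega)
          omega
        have : j = 1 := by omega
        subst this
        norm_num
      set a := Multiset.card U.cycleType with hadef
      have hUrep : U.cycleType = Multiset.replicate a 3 := Multiset.eq_replicate_card.mpr hU3
      have ha1 : 1 ≤ a := by
        rw [hadef, Nat.one_le_iff_ne_zero, Ne, Multiset.card_eq_zero]
        exact hU0
      have hUsum : U.cycleType.sum = 3 * a := by
        rw [hUrep, Multiset.sum_replicate, smul_eq_mul, mul_comm]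
      by_cases ha2 : a = 1
      · have hA : ({3} : Multiset ℕ) ≤ U.cycleType := by
          rw [hUrep, ha2]
          exact le_of_eq (by simp)
        have e1 := sum_sub_of_le hA
        rw [Multiset.sum_singleton] at e1
        exact good_of_cfg 3 hp U W {3} {3} 5 cfg_3_3 hA hB (by omega) (by omega)
      · have hA : ({3, 3} : Multiset ℕ) ≤ U.cycleType := by
          rw [hUrep]
          have : ({3, 3} : Multiset ℕ) = Multiset.replicate 2 3 := by rfl
          rw [this, Multiset.replicate_le_replicate]
          omega
        have e1 := sum_sub_of_le hA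
        have hs : ({3, 3} : Multiset ℕ).sum = 6 := by rfl
        rw [hs] at e1
        exact good_of_cfg 3 hp U W {3, 3} {3} 6 cfg_33_3 hA hB (by omega) (by omega)
  · have hm2' : 2 ≤ m := by omega
    have hB2 : ({3, 3} : Multiset ℕ) ≤ W.cycleType := by
      rw [hWrep]
      have : ({3, 3} : Multiset ℕ) = Multiset.replicate 2 3 := by rfl
      rw [this, Multiset.replicate_le_replicate]
      exact hm2'
    have eB2 := sum_sub_of_le hB2
    have hs : ({3, 3} : Multiset ℕ).sum = 6 := by rfl
    rw [hs] at eB2
    by_cases hc3 : 2 ≤ U.cycleType.count 3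
    · have hA : ({3, 3} : Multiset ℕ) ≤ U.cycleType := by
        have : ({3, 3} : Multiset ℕ) = Multiset.replicate 2 3 := by rfl
        rw [this, Multiset.le_iff_count]
        intro x
        by_cases hx : x = 3
        · subst hx
          rw [Multiset.count_replicate_self]
          exact hc3
        · rw [Multiset.count_replicate, if_neg (fun h => hx h.symm)]
          exact Nat.zero_le _
      have e1 := sum_sub_of_le hA
      rw [hs] at e1
      exact good_of_cfg 3 hp U W {3, 3} {3, 3} 6 cfg_33_33 hA hB2 (by omega) (by omega)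
    · by_cases hbig : ∃ ℓ ∈ U.cycleType, 5 ≤ ℓ
      · obtain ⟨ℓ, hℓ, hℓ5⟩ := hbig
        obtain ⟨j, hj1, hj⟩ := hl ℓ hℓ
        have hj2 : 2 ≤ j := by
          by_contra hlt
          have : j = 1 := by omega
          subst this
          omega
        set e := 3 ^ (j - 1) with hedef
        have hℓe : ℓ = 3 * e := by
          rw [hj, hedef, ← pow_succ']
          congr 1
          omega
        have he3 : 3 ≤ e := by
          rw [hedef]
          calc 3 = 3 ^ 1 := by norm_num
            _ ≤ 3 ^ (j - 1) := Nat.pow_le_pow_right (by norm_num) (by omega)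
        obtain ⟨k, hkdef⟩ : ∃ k : ℕ, k = min m e := ⟨_, rfl⟩
        have hk2 : 2 ≤ k := by
          rw [hkdef]
          exact le_min hm2' (by omega)
        have hke : k ≤ e := by
          rw [hkdef]
          exact min_le_right _ _
        have hkm : k ≤ m := by
          rw [hkdef]
          exact min_le_left _ _
        have hcfg := cfg_cycle_threes e k he3 hk2 hke
        rw [← hℓe] at hcfg
        have hA : ({ℓ} : Multiset ℕ) ≤ U.cycleType := Multiset.singleton_le.mpr hℓ
        have e1 := sum_sub_of_le hA
        rw [Multiset.sum_singleton] at e1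
        have hB : Multiset.replicate k 3 ≤ W.cycleType := by
          rw [hWrep, Multiset.replicate_le_replicate]
          exact hkm
        have e2 := sum_sub_of_le hB
        rw [Multiset.sum_replicate, smul_eq_mul] at e2
        have hℓU : ℓ ≤ U.cycleType.sum := Multiset.le_sum_of_mem hℓ
        exact good_of_cfg 3 hp U W {ℓ} (Multiset.replicate k 3) ℓ hcfg hA hB (by omega)
          (by omega)
      · have hU3 : ∀ x ∈ U.cycleType, x = 3 := by
          intro x hx
          obtain ⟨j, hj1, rfl⟩ := hl x hx
          have hx5 : ¬ 5 ≤ 3 ^ j := fun h => hbig ⟨_, hx, h⟩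
          have : j < 2 := by
            by_contra hge
            have : 3 ^ 2 ≤ 3 ^ j := Nat.pow_le_pow_right (by norm_num) (by omega)
            omega
          have : j = 1 := by omega
          subst this
          norm_num
        set a := Multiset.card U.cycleType with hadef
        have hUrep : U.cycleType = Multiset.replicate a 3 :=
          Multiset.eq_replicate_card.mpr hU3
        have ha1 : 1 ≤ a := by
          rw [hadef, Nat.one_le_iff_ne_zero, Ne, Multiset.card_eq_zero]
          exact hU0
        have ha : a = 1 := by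
          rw [hUrep, Multiset.count_replicate_self] at hc3
          omega
        have hUsum : U.cycleType.sum = 3 * a := by
          rw [hUrep, Multiset.sum_replicate, smul_eq_mul, mul_comm]
        have hA : ({3} : Multiset ℕ) ≤ U.cycleType := by
          rw [hUrep, ha]
          exact le_of_eq (by simp)
        have e1 := sum_sub_of_le hA
        rw [Multiset.sum_singleton] at e1
        exact good_of_cfg 3 hp U W {3} {3, 3} 6 (cfg_symm cfg_33_3) hA hB2 (by omega) (by omega)

end Cfsg.Agent.Lib.Helper24.APF
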