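import Mathlib
import Cfsg.Agent.Lib.Helper24.APF.Asm4

set_option autoImplicit false
set_option linter.style.haveILetI false

namespace Cfsg.Agent.Lib.Helper24.APF

open Equiv

theorem small_imp_three {n : ℕ} (p : ℕ) (hp : p.Prime) (hp3 : 3 ≤ p) (U : Perm (Fin n))
    (hU1 : U ≠ 1) (hUo : ∃ k : ℕ, orderOf U = p ^ k) (hs : ¬ ∃ x ∈ U.cycleType, 5 ≤ x) :
    p = 3 := by
  have hl := parts_pow p hp U hUo
  have hU0 : U.cycleType ≠ 0 := by
    rw [Ne, Equiv.Perm.cycleType_eq_zero]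
    exact hU1
  obtain ⟨x, hx⟩ := Multiset.exists_mem_of_ne_zero hU0
  obtain ⟨j, hj1, rfl⟩ := hl x hx
  have h5 : ¬ 5 ≤ p ^ j := fun h => hs ⟨_, hx, h⟩
  have hle : p ≤ p ^ j := by
    calc p = p ^ 1 := (pow_one p).symm
      _ ≤ p ^ j := Nat.pow_le_pow_right hp.pos hj1
  have hp4 : p ≠ 4 := by
    rintro rfl
    norm_num at hp
  omega

theorem main {n : ℕ} (hn : 5 ≤ n) (p : ℕ) (hp : p.Prime) (hp3 : 3 ≤ p)
    (U W : Perm (Fin n)) (hU1 : U ≠ 1) (hW1 : W ≠ 1)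
    (hUo : ∃ k : ℕ, orderOf U = p ^ k) (hWo : ∃ k : ℕ, orderOf W = p ^ k) :
    ∃ g : Perm (Fin n), Perm.sign g = 1 ∧ Good p U (g * W * g⁻¹) := by
  by_cases hbW : ∃ x ∈ W.cycleType, 5 ≤ x
  · by_cases hbU : ∃ x ∈ U.cycleType, 5 ≤ x
    · exact main_big hn p hp hp3 U W hUo hWo hbU hbW
    · have h3 := small_imp_three p hp hp3 U hU1 hUo hbU
      subst h3
      apply swap_roles
      refine main_small hn W U hW1 hU1 hWo hUo ?_
      intro y hy
      by_contra h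
      exact hbU ⟨y, hy, by omega⟩
  · have h3 := small_imp_three p hp hp3 W hW1 hWo hbW
    subst h3
    refine main_small hn U W hU1 hW1 hUo hWo ?_
    intro y hy
    by_contra h
    exact hbW ⟨y, hy, by omega⟩

theorem final (n : ℕ) (hn : 5 ≤ n) (p : ℕ) (hp : p.Prime) (hp3 : 3 ≤ p)
    (u w : alternatingGroup (Fin n)) (hu : u ≠ 1) (hw : w ≠ 1)
    (hu' : ∃ k : ℕ, orderOf u = p ^ k) (hw' : ∃ k : ℕ, orderOf w = p ^ k) :
    ∃ g : alternatingGroup (Fin n), (¬ ∃ k : ℕ, orderOf (u * (g * w * g⁻¹)) = p ^ k) ∧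
      ¬ Group.IsSolvable
        ↥(Subgroup.closure ({u, g * w * g⁻¹} : Set (alternatingGroup (Fin n)))) := by
  have hU1 : (u : Perm (Fin n)) ≠ 1 := fun h => hu (Subtype.ext h)
  have hW1 : (w : Perm (Fin n)) ≠ 1 := fun h => hw (Subtype.ext h)
  have hUo : ∃ k : ℕ, orderOf (u : Perm (Fin n)) = p ^ k := by
    obtain ⟨k, hk⟩ := hu'
    exact ⟨k, by rw [Subgroup.orderOf_coe, hk]⟩
  have hWo : ∃ k : ℕ, orderOf (w : Perm (Fin n)) = p ^ k := by
    obtain ⟨k, hk⟩ := hw'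
    exact ⟨k, by rw [Subgroup.orderOf_coe, hk]⟩
  obtain ⟨g₀, hg₀, hG1, hG2⟩ := main hn p hp hp3 u w hU1 hW1 hUo hWo
  refine ⟨⟨g₀, Equiv.Perm.mem_alternatingGroup.mpr hg₀⟩, ?_, ?_⟩
  · rintro ⟨k, hk⟩
    apply hG1
    refine ⟨k, ?_⟩
    rw [← hk, ← Subgroup.orderOf_coe]
    rfl
  · intro hsolv
    apply hG2
    set K := Subgroup.closure ({u, (⟨g₀, Equiv.Perm.mem_alternatingGroup.mpr hg₀⟩ :
      alternatingGroup (Fin n)) * w * (⟨g₀, Equiv.Perm.mem_alternatingGroup.mpr hg₀⟩ :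
      alternatingGroup (Fin n))⁻¹} : Set (alternatingGroup (Fin n))) with hK
    have hmap : K.map (alternatingGroup (Fin n)).subtype =
        Subgroup.closure ({(u : Perm (Fin n)), g₀ * (w : Perm (Fin n)) * g₀⁻¹} :
          Set (Perm (Fin n))) := by
      rw [hK, MonoidHom.map_closure]
      congr 1
      rw [Set.image_pair]
      rfl
    rw [← hmap]
    have hsurj : Function.Surjective
        ((alternatingGroup (Fin n)).subtype.subgroupMap K) :=
      MonoidHom.subgroupMap_surjective _ _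
    exact Group.isSolvable_of_surjective hsurj

end Cfsg.Agent.Lib.Helper24.APF
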